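import Groth.Statements.S19968

set_option autoImplicit false
universe u
open CategoryTheory AlgebraicGeometry Opposite

namespace Groth.Agent.Lib.Helper55.LinSerPt


theorem restrict_app_one {X : Scheme.{u}} (L : X.Modules) (s : Coh.structureModule X ⟶ L)
    (V : X.Opens) :
    L.presheaf.map (homOfLE (le_top : V ≤ ⊤)).op ((L.unitHomEquiv s).val (op ⊤)) =
      (L.unitHomEquiv s).val (op V) := by
  exact PresheafOfModules.sections_property (L.unitHomEquiv s) (homOfLE (le_top : V ≤ ⊤)).op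

theorem unitHom_val {X : Scheme.{u}} (L : X.Modules) (s : Coh.structureModule X ⟶ L)
    (V : X.Opens) (one : Γ(Coh.structureModule X, V)) (hone : one = (1 : Γ(X, V))) :
    (L.unitHomEquiv s).val (op V) = s.app V one := by
  subst hone
  rfl

theorem triv_natural {X : Scheme.{u}} (L : X.Modules) (U : X.Opens)
    (φh : L.restrict U.ι ⟶ Coh.structureModule (U : Scheme)) (W : (U : Scheme).Opens)
    (y : Γ(L.restrict U.ι, ⊤)) :
    (Coh.structureModule (U : Scheme)).presheaf.map (homOfLE (le_top : W ≤ ⊤)).op (φh.app ⊤ y) =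
      φh.app W ((L.restrict U.ι).presheaf.map (homOfLE (le_top : W ≤ ⊤)).op y) := by
  have hn1 := φh.mapPresheaf.naturality (homOfLE (le_top : W ≤ ⊤)).op
  exact (congr($hn1 y)).symm

theorem restrict_res {X : Scheme.{u}} (L : X.Modules) (U : X.Opens) (W : (U : Scheme).Opens)
    (σ : Γ(L, ⊤)) :
    (L.restrict U.ι).presheaf.map (homOfLE (le_top : W ≤ ⊤)).op
      (L.presheaf.map (homOfLE (le_top : U.ι ''ᵁ ⊤ ≤ ⊤)).op σ) =
    L.presheaf.map (homOfLE (le_top : U.ι ''ᵁ W ≤ ⊤)).op σ := by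
  have h := ConcreteCategory.congr_hom (L.presheaf.map_comp
    (homOfLE (le_top : U.ι ''ᵁ ⊤ ≤ ⊤)).op ((U.ι.opensFunctor).map (homOfLE (le_top : W ≤ ⊤))).op) σ
  exact h.symm


set_option maxHeartbeats 1000000 in
/-- Per-point evaluation functional. -/
theorem point_functional (k : Type u) [Field k] (X : Scheme.{u}) [X.Over (Spec (CommRingCat.of k))]
    (L : X.Modules) (hL : PicF.IsInvertible L)
    (p : Spec (CommRingCat.of k) ⟶ X) (hp : p ≫ (X ↘ Spec (CommRingCat.of k)) = 𝟙 _) :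
    ∃ e : L.val.obj (op ⊤) → k,
      (∀ σ σ' : L.val.obj (op ⊤), e (σ + σ') = e σ + e σ') ∧
      (∀ (c : k) (σ : L.val.obj (op ⊤)),
        e ((Coh.toGlobal (X ↘ Spec (CommRingCat.of k)) c) • σ) = c * e σ) ∧
      (∀ s : Coh.structureModule X ⟶ L, e ((L.unitHomEquiv s).val (op ⊤)) = 0 →
        p (IsLocalRing.closedPoint k) ∉ CohB1.genLocus L s) := by
  obtain ⟨U, hxU, ⟨φ⟩⟩ := hL (p (IsLocalRing.closedPoint k))
  have hrange : Set.range p ⊆ Set.range U.ι := by
    rintro _ ⟨y, rfl⟩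
    have : y = IsLocalRing.closedPoint k := Subsingleton.elim _ _
    rw [this, Scheme.Opens.range_ι]
    exact hxU
  let p' : Spec (CommRingCat.of k) ⟶ (U : Scheme) := IsOpenImmersion.lift U.ι p hrange
  have hp' : p' ≫ U.ι = p := IsOpenImmersion.lift_fac _ _ _
  let res : Γ(L, ⊤) → Γ(L, U.ι ''ᵁ ⊤) :=
    fun σ => L.presheaf.map (homOfLE (le_top : U.ι ''ᵁ ⊤ ≤ ⊤)).op σ
  let triv : Γ(L, U.ι ''ᵁ ⊤) → Γ((U : Scheme), ⊤) :=
    fun m => (φ.hom.app ⊤) m
  let ev : Γ((U : Scheme), ⊤) →+* k :=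
    ((Scheme.ΓSpecIso (CommRingCat.of k)).hom.hom).comp p'.appTop.hom
  let e : Γ(L, ⊤) → k := fun σ => ev (triv (res σ))
  have hres_add : ∀ σ σ', res (σ + σ') = res σ + res σ' := fun σ σ' => map_add _ σ σ'
  have htriv_add : ∀ m m', triv (m + m') = triv m + triv m' := fun m m' => map_add _ m m'
  have ha : ∀ σ σ' : Γ(L, ⊤), e (σ + σ') = e σ + e σ' := by
    intro σ σ'
    show ev (triv (res (σ + σ'))) = _
    rw [hres_add, htriv_add, map_add]
  -- ring map
  have hring : X.presheaf.map (homOfLE (le_top : U.ι ''ᵁ ⊤ ≤ ⊤)).op ≫ (U.ι.appIso ⊤).hom = U.ι.appTop := by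
    rw [Scheme.Hom.appIso_hom', Scheme.Hom.map_appLE]
    simp only [Scheme.Hom.appLE, Scheme.Hom.appTop]
    exact (congrArg (fun z => Scheme.Hom.app U.ι ⊤ ≫ z) ((U : Scheme).presheaf.map_id _)).trans
      (Category.comp_id _)
  have hres_smul : ∀ (r : Γ(X, ⊤)) (σ : Γ(L, ⊤)),
      res (r • σ) = (X.presheaf.map (homOfLE (le_top : U.ι ''ᵁ ⊤ ≤ ⊤)).op r) • res σ :=
    fun r σ => Scheme.Modules.map_smul L _ r σ
  have htriv_smul : ∀ (r' : Γ(X, U.ι ''ᵁ ⊤)) (m : Γ(L, U.ι ''ᵁ ⊤)),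
      triv (r' • m) = (U.ι.appIso ⊤).hom r' * triv m := by
    intro r' m
    let m' : Γ(L.restrict U.ι, ⊤) := m
    have h1 := Scheme.Modules.Hom.app_smul φ.hom ((U.ι.appIso ⊤).hom r') m'
    have h2 : ((U.ι.appIso ⊤).hom r' • m') = r' • m := by
      show (U.ι.appIso ⊤).inv ((U.ι.appIso ⊤).hom r') • m = r' • m
      simp
      rfl
    rw [h2] at h1
    exact h1
  have hev : ∀ c : k, ev (U.ι.appTop (Coh.toGlobal (X ↘ Spec (CommRingCat.of k)) c)) = c := by
    intro c
    have h4 : (X ↘ Spec (CommRingCat.of k)).appTop ≫ U.ι.appTop ≫ p'.appTop = 𝟙 _ := by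
      rw [← Scheme.Hom.comp_appTop, ← Scheme.Hom.comp_appTop, hp', hp, Scheme.Hom.id_appTop]
    have h5 : p'.appTop (U.ι.appTop ((X ↘ Spec (CommRingCat.of k)).appTop
        ((Scheme.ΓSpecIso (CommRingCat.of k)).inv c))) = (Scheme.ΓSpecIso (CommRingCat.of k)).inv c := by
      have := congrArg (fun g : Γ(Spec (CommRingCat.of k), ⊤) ⟶ Γ(Spec (CommRingCat.of k), ⊤) =>
        g ((Scheme.ΓSpecIso (CommRingCat.of k)).inv c)) h4
      exact this
    show (Scheme.ΓSpecIso (CommRingCat.of k)).hom (p'.appTop (U.ι.appTop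
      ((X ↘ Spec (CommRingCat.of k)).appTop ((Scheme.ΓSpecIso (CommRingCat.of k)).inv c)))) = c
    rw [h5]
    simp
  have hb : ∀ (c : k) (σ : L.val.obj (op ⊤)),
        e ((Coh.toGlobal (X ↘ Spec (CommRingCat.of k)) c) • σ) = c * e σ := by
    intro c σ
    let r : Γ(X, ⊤) := Coh.toGlobal (X ↘ Spec (CommRingCat.of k)) c
    let σ' : Γ(L, ⊤) := σ
    show ev (triv (res (r • σ'))) = c * ev (triv (res σ'))
    rw [hres_smul, htriv_smul, map_mul]
    congr 1
    have h3 : (U.ι.appIso ⊤).hom (X.presheaf.map (homOfLE (le_top : U.ι ''ᵁ ⊤ ≤ ⊤)).op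
        (Coh.toGlobal (X ↘ Spec (CommRingCat.of k)) c)) =
        U.ι.appTop (Coh.toGlobal (X ↘ Spec (CommRingCat.of k)) c) := by
      rw [← hring]; rfl
    rw [h3]
    exact hev c
  let trivW : ∀ (W : (U : Scheme).Opens), Γ(L, U.ι ''ᵁ W) → Γ((U : Scheme), W) :=
    fun W m => (φ.hom.app W) m
  have htriv_smulW : ∀ (W : (U : Scheme).Opens) (r' : Γ(X, U.ι ''ᵁ W)) (m : Γ(L, U.ι ''ᵁ W)),
      trivW W (r' • m) = (U.ι.appIso W).hom r' * trivW W m := by
    intro W r' m
    let m' : Γ(L.restrict U.ι, W) := m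
    have h1 := Scheme.Modules.Hom.app_smul φ.hom ((U.ι.appIso W).hom r') m'
    have h2 : ((U.ι.appIso W).hom r' • m') = r' • m := by
      show (U.ι.appIso W).inv ((U.ι.appIso W).hom r') • m = r' • m
      simp
      rfl
    rw [h2] at h1
    exact h1
  have hc : ∀ s : Coh.structureModule X ⟶ L, e ((L.unitHomEquiv s).val (op ⊤)) = 0 →
        p (IsLocalRing.closedPoint k) ∉ CohB1.genLocus L s := by
    intro s hes hx
    rw [CohB1.genLocus, TopologicalSpace.Opens.mem_sSup] at hx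
    obtain ⟨U'₀, hU', hxU'⟩ := hx
    obtain ⟨U', hU'eq⟩ : ∃ U' : X.Opens, U' = U'₀ := ⟨U'₀, rfl⟩
    subst hU'eq
    have hiso : IsIso ((Scheme.Modules.restrictFunctor U'.ι).map s) := hU'
    have hbij : ∀ V : X.Opens, V ≤ U' → Function.Bijective (s.app V) := by
      intro V hV
      have hVeq : V = U'.ι ''ᵁ (U'.ι ⁻¹ᵁ V) := by
        rw [Scheme.Hom.image_preimage_eq_opensRange_inf, Scheme.Opens.opensRange_ι]
        exact (inf_eq_right.2 hV).symm
      have h1 : IsIso (((Scheme.Modules.restrictFunctor U'.ι).map s).app (U'.ι ⁻¹ᵁ V)) :=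
        inferInstance
      have h2 := (ConcreteCategory.isIso_iff_bijective _).1 h1
      rw [hVeq]
      exact h2
    let W : (U : Scheme).Opens := U.ι ⁻¹ᵁ U'
    have hVU' : U.ι ''ᵁ W ≤ U' := by
      rw [Scheme.Hom.image_preimage_eq_opensRange_inf]; exact inf_le_right
    have hsV := hbij (U.ι ''ᵁ W) hVU'
    let σ : Γ(L, ⊤) := (L.unitHomEquiv s).val (op ⊤)
    let f : Γ((U : Scheme), ⊤) := triv (res σ)
    let fW : Γ((U : Scheme), W) := (U : Scheme).presheaf.map (homOfLE (le_top : W ≤ ⊤)).op f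
    let one : Γ(Coh.structureModule X, U.ι ''ᵁ W) := (1 : Γ(X, U.ι ''ᵁ W))
    have hfW : fW = trivW W (s.app (U.ι ''ᵁ W) one) := by
      have h1 := triv_natural L U φ.hom W (res σ)
      have h2 : (L.restrict U.ι).presheaf.map (homOfLE (le_top : W ≤ ⊤)).op (res σ) =
          s.app (U.ι ''ᵁ W) one := by
        rw [← unitHom_val L s (U.ι ''ᵁ W) one rfl, ← restrict_app_one L s (U.ι ''ᵁ W)]
        exact restrict_res L U W σ
      rw [h2] at h1
      exact h1
    have hφbij : Function.Bijective (φ.hom.app W) :=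
      (ConcreteCategory.isIso_iff_bijective _).1 inferInstance
    have hunit : IsUnit fW := by
      obtain ⟨m, hm⟩ := hφbij.2 (1 : Γ((U : Scheme), W))
      obtain ⟨r, hr⟩ := hsV.2 m
      let r₀ : Γ(X, U.ι ''ᵁ W) := r
      have hr1 : r = r₀ • one := by
        show r₀ = r₀ * 1
        rw [mul_one]
      have h6 : m = r₀ • s.app (U.ι ''ᵁ W) one := by
        rw [← hr, hr1, Scheme.Modules.Hom.app_smul]
      have h7 : (1 : Γ((U : Scheme), W)) = (U.ι.appIso W).hom r₀ * fW := by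
        rw [hfW, ← htriv_smulW, ← h6]
        exact hm.symm
      exact IsUnit.of_mul_eq_one ((U.ι.appIso W).hom r₀) (by rw [mul_comm]; exact h7.symm)
    have hx'W : p' (IsLocalRing.closedPoint k) ∈ W := by
      show U.ι (p' (IsLocalRing.closedPoint k)) ∈ U'
      have h9 : U.ι (p' (IsLocalRing.closedPoint k)) = p (IsLocalRing.closedPoint k) := by
        rw [← hp']; rfl
      rw [h9]; exact hxU'
    have hbo : (U : Scheme).basicOpen fW = W := Scheme.basicOpen_of_isUnit _ hunit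
    have hbo2 : (U : Scheme).basicOpen fW = W ⊓ (U : Scheme).basicOpen f :=
      Scheme.basicOpen_res _ _ _
    have hx'f : p' (IsLocalRing.closedPoint k) ∈ (U : Scheme).basicOpen f := by
      have hle : W ≤ (U : Scheme).basicOpen f := by
        rw [← hbo, hbo2]; exact inf_le_right
      exact hle hx'W
    have hpre : IsLocalRing.closedPoint k ∈ p' ⁻¹ᵁ (U : Scheme).basicOpen f := hx'f
    rw [Scheme.preimage_basicOpen_top] at hpre
    have hzero : p'.appTop f = 0 := by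
      have h8 : (Scheme.ΓSpecIso (CommRingCat.of k)).hom (p'.appTop f) = 0 := hes
      have h10 := congrArg (Scheme.ΓSpecIso (CommRingCat.of k)).inv h8
      simpa using h10
    rw [hzero, Scheme.basicOpen_zero] at hpre
    exact hpre
  exact ⟨e, ha, hb, hc⟩


theorem main
    (k : Type u) [Field k] (X : Scheme.{u}) [X.Over (Spec (CommRingCat.of k))]
    (L : X.Modules) (hL : PicF.IsInvertible L)
    (n : ℕ) (p : Fin n → (Spec (CommRingCat.of k) ⟶ X))
    (hp : ∀ i, p i ≫ (X ↘ Spec (CommRingCat.of k)) = 𝟙 _)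
    (t : Fin (n + 1) → (Coh.structureModule X ⟶ L))
    (ht : LinSer.LinIndep k X L (fun j => (L.unitHomEquiv (t j)).val (op ⊤))) :
    ∃ s : Coh.structureModule X ⟶ L, s ≠ 0 ∧
      ∀ i, (p i) (IsLocalRing.closedPoint k) ∉ CohB1.genLocus L s := by
  classical
  obtain ⟨τ, hτ⟩ : ∃ τ : Fin (n + 1) → L.val.obj (op ⊤),
      τ = fun j => (L.unitHomEquiv (t j)).val (op ⊤) := ⟨_, rfl⟩
  rw [← hτ] at ht
  choose e he1 he2 he3 using fun i => point_functional k X L hL (p i) (hp i)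
  have he0 : ∀ i, e i 0 = 0 := by
    intro i
    have := he1 i 0 0
    rw [add_zero] at this
    exact left_eq_add.mp this
  -- the matrix
  let E : (Fin (n + 1) → k) →ₗ[k] (Fin n → k) :=
    { toFun := fun c i => ∑ j, c j * e i (τ j)
      map_add' := fun c c' => by
        funext i
        simp only [Pi.add_apply, add_mul, Finset.sum_add_distrib]
      map_smul' := fun a c => by
        funext i
        simp only [Pi.smul_apply, smul_eq_mul, RingHom.id_apply, Finset.mul_sum, mul_assoc] }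
  have hker : LinearMap.ker E ≠ ⊥ := by
    apply LinearMap.ker_ne_bot_of_finrank_lt
    simp
  obtain ⟨c, hc, hc0⟩ := (Submodule.ne_bot_iff _).1 hker
  rw [LinearMap.mem_ker] at hc
  -- the section
  obtain ⟨σ₀, hσ₀⟩ : ∃ σ₀ : L.val.obj (op ⊤), σ₀ = ∑ j, (Coh.toGlobal (X ↘ Spec (CommRingCat.of k)) (c j)) •
      τ j := ⟨_, rfl⟩
  let sec : L.sections := PresheafOfModules.sectionsMk
    (fun U => L.val.map (homOfLE (le_top : U.unop ≤ ⊤)).op σ₀) (by
      intro U V f
      rw [← PresheafOfModules.map_comp_apply]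
      rfl)
  have hsec : sec.val (op ⊤) = σ₀ := by
    show L.val.map (homOfLE (le_top : (⊤ : X.Opens) ≤ ⊤)).op σ₀ = σ₀
    have : (homOfLE (le_top : (⊤ : X.Opens) ≤ ⊤)).op = 𝟙 (op ⊤) := rfl
    rw [this, PresheafOfModules.map_id]
    rfl
  refine ⟨L.unitHomEquiv.symm sec, ?_, ?_⟩
  · intro h0
    have h1 : (L.unitHomEquiv (L.unitHomEquiv.symm sec)).val (op ⊤) = σ₀ := by
      rw [Equiv.apply_symm_apply, hsec]
    rw [h0] at h1
    have h2 : σ₀ = 0 := by
      rw [← h1]
      rfl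
    rw [hσ₀] at h2
    exact hc0 (ht c h2)
  · intro i
    apply he3 i
    rw [Equiv.apply_symm_apply, hsec, hσ₀]
    have hsum : ∀ (S : Finset (Fin (n + 1))), e i (∑ j ∈ S, (Coh.toGlobal (X ↘ Spec (CommRingCat.of k)) (c j)) •
        τ j) = ∑ j ∈ S, c j * e i (τ j) := by
      intro S
      induction S using Finset.induction_on with
      | empty => simp [he0]
      | insert a S ha ih => rw [Finset.sum_insert ha, Finset.sum_insert ha, he1, he2, ih]
    rw [hsum]
    exact congrFun hc i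

end Groth.Agent.Lib.Helper55.LinSerPt
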